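import Groth.Agent.Lib.CurveVanish
import Groth.Agent.Lib.LerayCorner
import Groth.Agent.Lib.CurveTensor
import Groth.Agent.RelPC17.DimOne
import Groth.Agent.PnCoh.Finite.SerreVanishing

/-!
# Regularity of tensor products on the quadric
-/

set_option autoImplicit false
set_option linter.style.haveILetI false
set_option linter.unusedSectionVars false
set_option backward.isDefEq.respectTransparency false
set_option backward.isDefEq.respectTransparency.types false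
set_option maxHeartbeats 1000000
set_option synthInstance.maxHeartbeats 400000

universe u

open CategoryTheory CategoryTheory.Limits AlgebraicGeometry TopologicalSpace Opposite
open scoped Groth.Agent.H23.PicMul

noncomputable section

namespace Groth.Agent.BiRegQ

open Groth.Agent Groth.Agent.H23.PicMul

variable {X : Scheme.{u}} (hcd : ∀ M : X.Modules, Coh.IsQCoh M → Subsingleton (Coh.HH X M 3))

include hcd in
theorem subsingleton_two_of_epi {A B : X.Modules} (hA : Coh.IsQCoh A) (hB : Coh.IsQCoh B) (e : A ⟶ B) [Epi e]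
    (h : Subsingleton (Coh.HH X A 2)) : Subsingleton (Coh.HH X B 2) :=
  PnCoh.Finite.subsingleton_HH_X₃ (S := ShortComplex.mk (kernel.ι e) e (kernel.condition e))
    { exact := ShortComplex.exact_of_f_is_kernel _ (kernelIsKernel e) } 2 h
    (hcd _ (QCoh.isQCoh_kernel hA hB e))

variable [CompactSpace X] [QuasiSeparatedSpace X]

/-- `G` tensor a generated module is covered by copies of `G`. -/
theorem exists_cover {E G : X.Modules} (hgg : Curv2.IsGloballyGenerated E) (hG : Coh.IsQCoh G) :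
    ∃ (A : X.Modules) (e : A ⟶ CohB1.tensorMod E G), Epi e ∧ Coh.IsQCoh A ∧
      ∀ n, Subsingleton (Coh.HH X G n) → Subsingleton (Coh.HH X A n) := by
  obtain ⟨ι, p, hp⟩ := hgg
  haveI := hp
  let F := DCoh.tensorBi.flip.obj G
  let p' : (∐ fun _ : ι => Coh.structureModule X) ⟶ E := p
  haveI : Epi p' := hp
  let φ : F.obj (∐ fun _ : ι => Coh.structureModule X) ≅ ∐ fun _ : ι => G :=
    PreservesCoproduct.iso F _ ≪≫ Sigma.mapIso fun _ => CurveTensor.structureTensorIso G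
  exact ⟨∐ fun _ : ι => G, φ.inv ≫ F.map p', inferInstance, H23.LocFinCoprod.isQCoh_coprod fun _ => hG,
    fun n h => RelPC17.DimOne.subsingleton_coprod _ n fun _ => h⟩

include hcd in
theorem subsingleton_two_tensor {E G : X.Modules} (hgg : Curv2.IsGloballyGenerated E) (hE : Coh.IsQCoh E)
    (hG : Coh.IsQCoh G) (h : Subsingleton (Coh.HH X G 2)) : Subsingleton (Coh.HH X (CohB1.tensorMod E G) 2) := by
  obtain ⟨A, e, he, hA, hv⟩ := exists_cover hgg hG
  exact subsingleton_two_of_epi hcd hA (KFlatLib.isQCoh_tensor hE hG) e (hv 2 h)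

include hcd in
/-- The degree-one step. -/
theorem subsingleton_one_tensor {E₁ E₂ ε : X.Modules} (hgg₁ : Curv2.IsGloballyGenerated E₁)
    (hgg₂ : Curv2.IsGloballyGenerated E₂) (hq₁ : Coh.IsQCoh E₁) (h₂ : FlatMod.IsFinLocFree E₂)
    (hε : FlatMod.IsFinLocFree ε) (hF : FlatMod.IsFinLocFree (CohB1.tensorMod E₂ ε))
    (hv1 : Subsingleton (Coh.HH X (CohB1.tensorMod E₁ ε) 1))
    (hv2 : Subsingleton (Coh.HH X (CohB1.tensorMod E₂ ε) 1))
    (hv0 : Subsingleton (Coh.HH X ε 2)) :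
    Subsingleton (Coh.HH X (CohB1.tensorMod E₁ (CohB1.tensorMod E₂ ε)) 1) := by
  obtain ⟨ι, p, hp⟩ := hgg₁
  haveI := hp
  let T : X.Modules := ∐ fun _ : ι => Coh.structureModule X
  let p' : T ⟶ E₁ := p
  haveI : Epi p' := hp
  have hTq : Coh.IsQCoh T := RelPC17.DimOne.isQCoh_coprodO X ι
  let K := kernel p'
  have hKq : Coh.IsQCoh K := QCoh.isQCoh_kernel hTq hq₁ p'
  have hS : (ShortComplex.mk (kernel.ι p') p' (kernel.condition p')).ShortExact :=
    { exact := ShortComplex.exact_of_f_is_kernel _ (kernelIsKernel p') }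
  have hfree : ∀ (W : X.Modules) (n : ℕ), Subsingleton (Coh.HH X W n) →
      Subsingleton (Coh.HH X ((DCoh.tensorBi.obj W).obj T) n) := fun W n h =>
    QCoh.subsingleton_HH_of_iso
      (PreservesCoproduct.iso (DCoh.tensorBi.obj W) _ ≪≫ Sigma.mapIso fun _ => KFlatLib.tensorUnitIso W).symm n
      (RelPC17.DimOne.subsingleton_coprod _ n fun _ => h)
  have hcomm : ∀ (A B : X.Modules) (n : ℕ), Subsingleton (Coh.HH X (CohB1.tensorMod A B) n) →
      Subsingleton (Coh.HH X (CohB1.tensorMod B A) n) := fun A B n h =>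
    QCoh.subsingleton_HH_of_iso (CurveTensor.commIso A B) n h
  have hK : Subsingleton (Coh.HH X (CohB1.tensorMod ε K) 2) :=
    Groth.Agent.LerayCorner.subsingleton_HH_X₁ (CurveTensor.shortExact_tensor hε _ _ _ hS) 1 (hcomm _ _ _ hv1) (hfree ε 2 hv0)
  have hKF : Subsingleton (Coh.HH X (CohB1.tensorMod (CohB1.tensorMod E₂ ε) K) 2) := by
    refine QCoh.subsingleton_HH_of_iso
      (H23.PicMul.cl_eq_iff.1 (show PicF.cl (CohB1.tensorMod E₂ (CohB1.tensorMod ε K)) =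
        PicF.cl (CohB1.tensorMod (CohB1.tensorMod E₂ ε) K) by simp only [cl_tensor, mul_assoc])).some 2
      (subsingleton_two_tensor hcd hgg₂ (QCoh.isQCoh_of_isFinLocFree h₂)
        (KFlatLib.isQCoh_tensor (QCoh.isQCoh_of_isFinLocFree hε) hKq) hK)
  refine hcomm _ _ _ ?_
  exact PnCoh.Finite.subsingleton_HH_X₃ (CurveTensor.shortExact_tensor hF _ _ _ hS) 1 (hfree _ 1 hv2) hKF

theorem shuffle {M : Type*} [CommMonoid M] (a b p m e : M) :
    a * p * (b * m * e) = a * b * (p * (m * e)) := by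
  rw [mul_assoc b m e, mul_mul_mul_comm]

include hcd in
/-- Regularity of a tensor product, for a family of line bundles indexed by pairs. -/
theorem isReg_tensor (L : ℤ → ℤ → X.Modules) (hL : ∀ a b, FlatMod.IsFinLocFree (L a b))
    (hmul : ∀ a b c d, PicF.cl (L a b) * PicF.cl (L c d) = PicF.cl (L (a + c) (b + d)))
    (h0 : ∀ a b : ℤ, -1 ≤ a → -1 ≤ b → Subsingleton (Coh.HH X (L a b) 2))
    (hgt : ∀ (M : X.Modules), Coh.IsQCoh M → ∀ i, 2 < i → Subsingleton (Coh.HH X M i))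
    {G₁ G₂ : X.Modules} (hG₁ : FlatMod.IsFinLocFree G₁) (hG₂ : FlatMod.IsFinLocFree G₂) (p q m n : ℤ)
    (hreg₁ : ∀ u₁ u₂ : ℕ, 0 < u₁ + u₂ →
      Subsingleton (Coh.HH X (CohB1.tensorMod G₁ (L (p - u₁) (q - u₂))) (u₁ + u₂)))
    (hreg₂ : ∀ u₁ u₂ : ℕ, 0 < u₁ + u₂ →
      Subsingleton (Coh.HH X (CohB1.tensorMod G₂ (L (m - u₁) (n - u₂))) (u₁ + u₂)))
    (hgg₁ : Curv2.IsGloballyGenerated (CohB1.tensorMod G₁ (L p q)))
    (hgg₂ : Curv2.IsGloballyGenerated (CohB1.tensorMod G₂ (L m n)))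
    (u₁ u₂ : ℕ) (hu : 0 < u₁ + u₂) :
    Subsingleton (Coh.HH X (CohB1.tensorMod (CohB1.tensorMod G₁ G₂) (L (p + m - u₁) (q + n - u₂))) (u₁ + u₂)) := by
  have hlf : ∀ {G : X.Modules}, FlatMod.IsFinLocFree G → ∀ a b, FlatMod.IsFinLocFree (CohB1.tensorMod G (L a b)) :=
    fun hG a b => KFlatLib.isFinLocFree_tensor hG (hL a b)
  have e₁ : PicF.cl (L (p + m - u₁) (q + n - u₂)) =
      PicF.cl (L p q) * (PicF.cl (L m n) * PicF.cl (L (-u₁) (-u₂))) := by
    rw [hmul, hmul]; congr 2 <;> ring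
  have e₂ : ∀ a b, PicF.cl (L (a - u₁) (b - u₂)) = PicF.cl (L a b) * PicF.cl (L (-u₁) (-u₂)) := fun a b => by
    rw [hmul, sub_eq_add_neg, sub_eq_add_neg]
  rcases Nat.lt_or_ge 2 (u₁ + u₂) with h3 | h3
  · exact hgt _ (KFlatLib.isQCoh_tensor
      (KFlatLib.isQCoh_tensor (QCoh.isQCoh_of_isFinLocFree hG₁) (QCoh.isQCoh_of_isFinLocFree hG₂))
      (QCoh.isQCoh_of_isFinLocFree (hL _ _))) _ h3
  rcases Nat.lt_or_ge (u₁ + u₂) 2 with h1 | h2
  · have hu1 : u₁ + u₂ = 1 := by omega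
    have r1 := hreg₁ u₁ u₂ hu
    have r2 := hreg₂ u₁ u₂ hu
    rw [hu1] at r1 r2 ⊢
    obtain ⟨w₁⟩ : Nonempty (CohB1.tensorMod G₁ (L (p - u₁) (q - u₂)) ≅
        CohB1.tensorMod (CohB1.tensorMod G₁ (L p q)) (L (-u₁) (-u₂))) :=
      cl_eq_iff.1 (by simp only [cl_tensor, e₂, mul_assoc])
    obtain ⟨w₂⟩ : Nonempty (CohB1.tensorMod G₂ (L (m - u₁) (n - u₂)) ≅
        CohB1.tensorMod (CohB1.tensorMod G₂ (L m n)) (L (-u₁) (-u₂))) :=
      cl_eq_iff.1 (by simp only [cl_tensor, e₂, mul_assoc])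
    obtain ⟨w⟩ : Nonempty (CohB1.tensorMod (CohB1.tensorMod G₁ (L p q))
        (CohB1.tensorMod (CohB1.tensorMod G₂ (L m n)) (L (-u₁) (-u₂))) ≅
          CohB1.tensorMod (CohB1.tensorMod G₁ G₂) (L (p + m - u₁) (q + n - u₂))) :=
      cl_eq_iff.1 (by simp only [cl_tensor]; rw [e₁]; exact shuffle _ _ _ _ _)
    exact QCoh.subsingleton_HH_of_iso w 1 (subsingleton_one_tensor (E₁ := CohB1.tensorMod G₁ (L p q))
      (E₂ := CohB1.tensorMod G₂ (L m n)) (ε := L (-u₁) (-u₂)) hcd hgg₁ hgg₂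
      (QCoh.isQCoh_of_isFinLocFree (hlf hG₁ p q)) (hlf hG₂ m n) (hL _ _)
      (hlf (hlf hG₂ m n) (-u₁) (-u₂))
      (QCoh.subsingleton_HH_of_iso w₁ 1 r1) (QCoh.subsingleton_HH_of_iso w₂ 1 r2)
      (h0 _ _ (by omega) (by omega)))
  · have hu2 : u₁ + u₂ = 2 := by omega
    have r2 := hreg₂ u₁ u₂ hu
    rw [hu2] at r2 ⊢
    obtain ⟨w⟩ : Nonempty (CohB1.tensorMod (CohB1.tensorMod G₁ (L p q)) (CohB1.tensorMod G₂ (L (m - u₁) (n - u₂))) ≅
        CohB1.tensorMod (CohB1.tensorMod G₁ G₂) (L (p + m - u₁) (q + n - u₂))) :=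
      cl_eq_iff.1 (by simp only [cl_tensor]; rw [e₁, e₂ m n, ← mul_assoc (PicF.cl G₂)]; exact shuffle _ _ _ _ _)
    exact QCoh.subsingleton_HH_of_iso w 2 (subsingleton_two_tensor hcd hgg₁
      (QCoh.isQCoh_of_isFinLocFree (hlf hG₁ p q)) (QCoh.isQCoh_of_isFinLocFree (hlf hG₂ _ _)) r2)

end Groth.Agent.BiRegQ
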