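import Groth.Agent.BiRegQ.Tprod
import Groth.Agent.BiRegQ.Tensor
import Groth.Agent.Lib.AVTraceRetract

/-!
# Retracts and global generation
-/

set_option autoImplicit false
set_option linter.style.haveILetI false
set_option linter.unusedSectionVars false
set_option backward.isDefEq.respectTransparency false
set_option backward.isDefEq.respectTransparency.types false
set_option maxHeartbeats 1000000

universe u

open CategoryTheory CategoryTheory.Limits AlgebraicGeometry TopologicalSpace Opposite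
open scoped Groth.Agent.H23.PicMul

noncomputable section

namespace Groth.Agent.BiRegQ

open Groth.Agent

variable {X : Scheme.{u}}

theorem gg_tensor {E₁ E₂ : X.Modules} (h₁ : Curv2.IsGloballyGenerated E₁) (h₂ : Curv2.IsGloballyGenerated E₂) :
    Curv2.IsGloballyGenerated (CohB1.tensorMod E₁ E₂) := by
  classical
  obtain ⟨ι, p, hp⟩ := h₁
  obtain ⟨κ, q, hq⟩ := h₂
  let p' : (∐ fun _ : ι => Coh.structureModule X) ⟶ E₁ := p
  let q' : (∐ fun _ : κ => Coh.structureModule X) ⟶ E₂ := q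
  haveI : Epi p' := hp
  haveI : Epi q' := hq
  let F := DCoh.tensorBi.flip.obj E₂
  let φ : F.obj (∐ fun _ : ι => Coh.structureModule X) ≅ ∐ fun _ : ι => E₂ :=
    PreservesCoproduct.iso F _ ≪≫ Sigma.mapIso fun _ => CurveTensor.structureTensorIso E₂
  let ψ : (∐ fun _ : ι × κ => Coh.structureModule X) ⟶ ∐ fun _ : ι => E₂ :=
    Sigma.desc fun a => Sigma.ι (fun _ : κ => Coh.structureModule X) a.2 ≫ q' ≫ Sigma.ι (fun _ : ι => E₂) a.1
  haveI : Epi ψ := by
    refine ⟨fun g h hgh => Sigma.hom_ext _ _ fun i => (cancel_epi q').1 (Sigma.hom_ext _ _ fun l => ?_)⟩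
    have h1 := Sigma.ι (fun _ : ι × κ => Coh.structureModule X) (i, l) ≫= hgh
    simpa [ψ] using h1
  exact ⟨ι × κ, ψ ≫ φ.inv ≫ F.map p', inferInstanceAs (Epi (ψ ≫ φ.inv ≫ F.map p'))⟩

theorem gg_of_iso {E E' : X.Modules} (e : E ≅ E') (h : Curv2.IsGloballyGenerated E) :
    Curv2.IsGloballyGenerated E' := by
  obtain ⟨ι, p, hp⟩ := h
  haveI := hp
  exact ⟨ι, p ≫ e.hom, epi_comp _ _⟩

theorem gg_structureModule : Curv2.IsGloballyGenerated (Coh.structureModule X) := by
  let e : (∐ fun _ : PUnit.{u + 1} => Coh.structureModule X) ⟶ Coh.structureModule X := Sigma.desc fun _ => 𝟙 _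
  haveI : Epi e := ⟨fun g h hgh => by simpa [e] using Sigma.ι (fun _ : PUnit.{u + 1} => Coh.structureModule X) ⟨⟩ ≫= hgh⟩
  exact ⟨PUnit, e, inferInstanceAs (Epi e)⟩

variable {k : Type u} [Field k] [CharZero k] [X.Over (Spec (CommRingCat.of k))]

include k in
theorem isIso_nsmul_id (n : ℕ) (hn : n ≠ 0) (M : X.Modules) : IsIso (n • 𝟙 M : M ⟶ M) := by
  refine Scheme.Modules.Hom.isIso_iff_isIso_app.2 fun V => (ConcreteCategory.isIso_iff_bijective _).2 ?_
  let f : k →+* Γ(X, V) := ((Scheme.ΓSpecIso (CommRingCat.of k)).inv ≫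
    (X ↘ Spec (CommRingCat.of k)).appLE ⊤ V (fun _ _ => trivial)).hom
  have hu : IsUnit ((n : Γ(X, V))) := by
    have h := (isUnit_iff_ne_zero.2 (Nat.cast_ne_zero.2 hn : (n : k) ≠ 0)).map f
    rwa [map_natCast] at h
  have he : ((n • 𝟙 M : M ⟶ M).app V : Γ(M, V) → Γ(M, V)) = fun x => (n : Γ(X, V)) • x := funext fun x => by
    rw [app_nsmul_id]
    exact (Nat.cast_smul_eq_nsmul Γ(X, V) n x).symm
  rw [he]
  exact ⟨fun a b h => (IsUnit.smul_left_cancel hu).1 h, fun x => ⟨(↑hu.unit⁻¹ : Γ(X, V)) • x,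
    (smul_smul _ _ _).trans (by rw [IsUnit.mul_val_inv, one_smul])⟩⟩

variable (k) in
include k in
/-- An exterior power is a retract of the tensor power. -/
theorem exists_retract {G W : X.Modules} (hG : FlatMod.IsFinLocFree G) {j : ℕ} (hW : ExtPow.IsExtPow j G W) :
    ∃ (s : W ⟶ CohB1.tensorPow G j) (r : CohB1.tensorPow G j ⟶ W), s ≫ r = 𝟙 W := by
  obtain ⟨e⟩ := H28.ExtSh.nonempty_iso_L hG hW
  haveI := isIso_nsmul_id (k := k) j.factorial j.factorial_ne_zero (H28.ExtBase.L G j)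
  refine ⟨e.inv ≫ sec G j, retr G j ≫ inv (j.factorial • 𝟙 (H28.ExtBase.L G j)) ≫ e.hom, ?_⟩
  rw [Category.assoc, ← Category.assoc (sec G j), sec_retr, IsIso.hom_inv_id_assoc, e.inv_hom_id]

end Groth.Agent.BiRegQ
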