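import Groth.Agent.BiRegQ.Quad
import Groth.Agent.BiRegQ.Retract
import Groth.Agent.CurveCover.FamilyFibre

/-!
# Regularity of exterior powers on the quadric
-/

set_option autoImplicit false
set_option linter.style.haveILetI false
set_option linter.unusedSectionVars false
set_option backward.isDefEq.respectTransparency false
set_option backward.isDefEq.respectTransparency.types false
set_option maxHeartbeats 1000000
set_option synthInstance.maxHeartbeats 400000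

universe u

open CategoryTheory CategoryTheory.Limits AlgebraicGeometry TopologicalSpace Opposite
open scoped Groth.Agent.H23.PicMul

noncomputable section

namespace Groth.Agent.BiRegQ

open Groth.Agent Groth.Agent.H23.PicMul

section General

variable {X : Scheme.{u}} (L : ℤ → ℤ → X.Modules)

theorem isReg_retract {W T : X.Modules} (s : W ⟶ T) (r : T ⟶ W) (h : s ≫ r = 𝟙 W) (a b : ℤ) (i : ℕ)
    (hT : Subsingleton (Coh.HH X (CohB1.tensorMod T (L a b)) i)) :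
    Subsingleton (Coh.HH X (CohB1.tensorMod W (L a b)) i) :=
  AVTraceRetract.subsingleton_HH_of_retract ((DCoh.tensorBi.flip.obj (L a b)).map s) ((DCoh.tensorBi.flip.obj (L a b)).map r)
    (by rw [← Functor.map_comp, h, CategoryTheory.Functor.map_id]) i hT

variable [CompactSpace X] [QuasiSeparatedSpace X]
  (hcd : ∀ M : X.Modules, Coh.IsQCoh M → Subsingleton (Coh.HH X M 3))
  (hL : ∀ a b, FlatMod.IsFinLocFree (L a b))
  (hmul : ∀ a b c d, PicF.cl (L a b) * PicF.cl (L c d) = PicF.cl (L (a + c) (b + d)))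
  (hone : PicF.cl (L 0 0) = 1)
  (h1 : ∀ u₁ u₂ : ℕ, 0 < u₁ + u₂ → u₁ + u₂ ≤ 2 → Subsingleton (Coh.HH X (L (-u₁) (-u₂)) (u₁ + u₂)))
  (h0 : ∀ a b : ℤ, -1 ≤ a → -1 ≤ b → Subsingleton (Coh.HH X (L a b) 2))
  (hgt : ∀ (M : X.Modules), Coh.IsQCoh M → ∀ i, 2 < i → Subsingleton (Coh.HH X M i))

include hcd hL hmul hone h1 h0 hgt in
theorem isReg_tensorPow {G : X.Modules} (hG : FlatMod.IsFinLocFree G) (p q : ℤ)
    (hreg : ∀ u₁ u₂ : ℕ, 0 < u₁ + u₂ →
      Subsingleton (Coh.HH X (CohB1.tensorMod G (L (p - u₁) (q - u₂))) (u₁ + u₂)))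
    (hgg : Curv2.IsGloballyGenerated (CohB1.tensorMod G (L p q))) : ∀ j : ℕ,
    (∀ u₁ u₂ : ℕ, 0 < u₁ + u₂ → Subsingleton (Coh.HH X
        (CohB1.tensorMod (CohB1.tensorPow G j) (L ((j : ℤ) * p - u₁) ((j : ℤ) * q - u₂))) (u₁ + u₂))) ∧
      Curv2.IsGloballyGenerated (CohB1.tensorMod (CohB1.tensorPow G j) (L ((j : ℤ) * p) ((j : ℤ) * q))) := by
  have hlf := fun j => CurveCover.isFinLocFree_tensorPow hG j
  intro j
  induction j with
  | zero =>
    simp only [Nat.cast_zero, zero_mul, zero_sub]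
    refine ⟨fun u₁ u₂ hu => ?_, gg_of_iso (cl_eq_iff.1 ?_).some gg_structureModule⟩
    · rcases Nat.lt_or_ge 2 (u₁ + u₂) with h | h
      · exact hgt _ (KFlatLib.isQCoh_tensor (QCoh.isQCoh_of_isFinLocFree (hlf 0))
          (QCoh.isQCoh_of_isFinLocFree (hL _ _))) _ h
      · refine QCoh.subsingleton_HH_of_iso (cl_eq_iff.1 ?_).some _ (h1 u₁ u₂ hu h)
        rw [cl_tensor]
        exact (one_mul (PicF.cl (L (-u₁) (-u₂)))).symm
    · rw [cl_tensor, hone, mul_one]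
      rfl
  | succ j ih =>
    have e1 : ∀ a : ℤ, ((j + 1 : ℕ) : ℤ) * a = (j : ℤ) * a + a := fun a => by push_cast; ring
    rw [e1, e1]
    refine ⟨fun u₁ u₂ hu => isReg_tensor hcd L hL hmul h0 hgt (hlf j) hG _ _ p q ih.1 hreg ih.2 hgg u₁ u₂ hu,
      gg_of_iso (cl_eq_iff.1 ?_).some (gg_tensor ih.2 hgg)⟩
    show _ = PicF.cl (CohB1.tensorMod (CohB1.tensorMod (CohB1.tensorPow G j) G) _)
    simp only [cl_tensor, ← hmul]
    exact mul_mul_mul_comm _ _ _ _

end General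

open W4c3multigrregular

variable {k : Type u} [Field k] [CharZero k]

theorem subsingleton_lineBundle_neg (u₁ u₂ : ℕ) (hu : 0 < u₁ + u₂) (h2 : u₁ + u₂ ≤ 2) :
    Subsingleton (Coh.HH (biProj 1 1 k) (lineBundle 1 1 k (-u₁) (-u₂)) (u₁ + u₂)) := by
  have key : ∀ b : ℤ, -1 ≤ b → Subsingleton (Coh.HH (Synt29.Quadric.XQ k) (Synt29.Quadric.OX k (-2) b) 2) := by
    intro b hb
    obtain ⟨S, hS, ⟨e₁⟩, ⟨e₂⟩, ⟨e₃⟩⟩ := Synt29.Quadric.exists_koszul_left (k := k) 0 b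
    refine QCoh.subsingleton_HH_of_iso (e₁ ≪≫ eqToIso (by norm_num)) 2 ?_
    refine LerayCorner.subsingleton_HH_X₁ hS 1
      (QCoh.subsingleton_HH_of_iso e₃.symm 1 (Synt29.Quadric.hh_pos 0 b (by norm_num) hb 1 le_rfl)) ?_
    refine QCoh.subsingleton_HH_of_iso e₂.symm 2 ?_
    refine KoszulChop.subsingleton_HH_biprod 2 ?_ ?_ <;> exact Synt29.Quadric.hh_neg_one b 2
  rcases (show (u₁ = 2 ∧ u₂ = 0) ∨ (u₁ = 0 ∧ u₂ = 2) ∨ (u₁ ≤ 1 ∧ u₂ ≤ 1) by omega) with ⟨rfl, rfl⟩ | ⟨rfl, rfl⟩ | ⟨a, b⟩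
  · exact key 0 (by norm_num)
  · exact Synt29.Quadric.hh_swap 0 (-2) 2 (key 0 (by norm_num))
  · exact Synt29.Quadric.hh_pos _ _ (by omega) (by omega) _ hu

/-- Regularity of exterior powers. -/
theorem isBiReg_extPow {G W : (biProj 1 1 k).Modules} (hG : FlatMod.IsFinLocFree G) (p q : ℤ)
    (hreg : IsBiReg 1 1 k G p q) (hgg : Curv2.IsGloballyGenerated (twistBi 1 1 k G p q)) (j : ℕ)
    (hW : ExtPow.IsExtPow j G W) : IsBiReg 1 1 k W (j * p) (j * q) := by
  haveI hp : IsProper ((biProj 1 1 k) ↘ Spec (CommRingCat.of k)) := isProper_toSpec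
  haveI := CurveCohLib.isNoetherian_of_proper (k := k) (X := biProj 1 1 k)
  obtain ⟨s, r, hsr⟩ := exists_retract k hG hW
  have hT := (isReg_tensorPow (lineBundle 1 1 k) (fun M hM => subsingleton_HH_gt M hM 3 (by norm_num))
    (fun a b => Synt29.Quadric.lf_OX a b) (fun a b c d => Synt29.Quadric.cl_OX_mul a b c d)
    Synt29.Quadric.cl_OX_zero subsingleton_lineBundle_neg
    (fun a b ha hb => Synt29.Quadric.hh_pos a b ha hb 2 (by norm_num))
    (fun M hM i hi => subsingleton_HH_gt M hM i hi) hG p q hreg hgg j).1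
  exact fun u₁ u₂ hu => isReg_retract (lineBundle 1 1 k) s r hsr _ _ _ (hT u₁ u₂ hu)

end Groth.Agent.BiRegQ
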