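import Groth.Prelude.Def_W4c3multigrregularBiProj
import Groth.Agent.BiRegQ.Tensor
import Groth.Agent.Synt29.QuadricKer
import Groth.Agent.FibDim.BaseField
import Groth.Agent.S10829
import Groth.Agent.NefH1.Field

/-!
# Regularity of tensor products on the quadric
-/

set_option autoImplicit false
set_option linter.style.haveILetI false
set_option linter.unusedSectionVars false
set_option backward.isDefEq.respectTransparency false
set_option backward.isDefEq.respectTransparency.types false
set_option maxHeartbeats 1000000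
set_option synthInstance.maxHeartbeats 400000

universe u

open CategoryTheory CategoryTheory.Limits AlgebraicGeometry TopologicalSpace Opposite
open scoped Groth.Agent.H23.PicMul

noncomputable section

namespace Groth.Agent.BiRegQ

open Groth.Agent Groth.Agent.H23.PicMul W4c3multigrregular

variable {k : Type u} [Field k]

theorem isProper_toSpec : IsProper (biProj.toSpec 1 1 k) := by
  haveI : IsProper (CohB1.ProjSpace.toSpec 1 k) := PnCoh.Chow.isProper_toSpec 1 k
  infer_instance

theorem subsingleton_HH_gt (M : (biProj 1 1 k).Modules) (hM : Coh.IsQCoh M) (i : ℕ) (hi : 2 < i) :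
    Subsingleton (Coh.HH (biProj 1 1 k) M i) := by
  haveI hp : IsProper ((biProj 1 1 k) ↘ Spec (CommRingCat.of k)) := isProper_toSpec
  haveI := CurveCohLib.isNoetherian_of_proper (k := k) (X := biProj 1 1 k)
  haveI : (biProj 1 1 k).IsSeparated := ⟨by
    rw [← terminal.comp_from ((biProj 1 1 k) ↘ Spec (CommRingCat.of k))]
    infer_instance⟩
  haveI : IsProper (CohB1.ProjSpace.toSpec 1 k) := PnCoh.Chow.isProper_toSpec 1 k
  haveI : Subsingleton ↥(Spec (CommRingCat.of k)) := inferInstanceAs (Subsingleton (PrimeSpectrum k))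
  have hd : topologicalKrullDim ↥(biProj 1 1 k) ≤ (2 : ℕ) := by
    rw [FibDim.topologicalKrullDim_pullback, S10829.result k 1]
    norm_num
  exact Snapper.subsingleton_HH_of_dim_le hd hM hi

/-- Regularity of a tensor product. -/
theorem isBiReg_tensor {G₁ G₂ : (biProj 1 1 k).Modules}
    (hG₁ : FlatMod.IsFinLocFree G₁) (hG₂ : FlatMod.IsFinLocFree G₂) (p q m n : ℤ)
    (hreg₁ : IsBiReg 1 1 k G₁ p q) (hreg₂ : IsBiReg 1 1 k G₂ m n)
    (hgg₁ : Curv2.IsGloballyGenerated (twistBi 1 1 k G₁ p q))
    (hgg₂ : Curv2.IsGloballyGenerated (twistBi 1 1 k G₂ m n)) :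
    IsBiReg 1 1 k (CohB1.tensorMod G₁ G₂) (p + m) (q + n) := by
  haveI hp : IsProper ((biProj 1 1 k) ↘ Spec (CommRingCat.of k)) := isProper_toSpec
  haveI := CurveCohLib.isNoetherian_of_proper (k := k) (X := biProj 1 1 k)
  haveI : QuasiSeparatedSpace ↥(biProj 1 1 k) := inferInstance
  exact isReg_tensor (fun M hM => subsingleton_HH_gt M hM 3 (by norm_num)) (lineBundle 1 1 k)
    (fun a b => Synt29.Quadric.lf_OX a b) (fun a b c d => Synt29.Quadric.cl_OX_mul a b c d)
    (fun a b ha hb => Synt29.Quadric.hh_pos a b ha hb 2 (by norm_num))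
    (fun M hM i hi => subsingleton_HH_gt M hM i hi) hG₁ hG₂ p q m n hreg₁ hreg₂ hgg₁ hgg₂

end Groth.Agent.BiRegQ
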