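import Groth.Agent.H28.ExtSh
import Groth.Agent.AmpleVan.Mul
import Mathlib.LinearAlgebra.Alternating.Basic

/-!
# Exterior powers are retracts of tensor powers in characteristic zero
-/

set_option autoImplicit false
set_option linter.style.haveILetI false
set_option linter.unusedSectionVars false
set_option backward.isDefEq.respectTransparency false
set_option backward.isDefEq.respectTransparency.types false
set_option maxHeartbeats 1000000

universe u

open CategoryTheory CategoryTheory.Limits AlgebraicGeometry TopologicalSpace Opposite MonoidalCategory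
open Groth.Agent.AModX Groth.Agent.H28.ExtBase
open scoped TensorProduct

noncomputable section

namespace Groth.Agent.BiRegQ

open Groth.Agent

variable {X : Scheme.{u}}

theorem tmul_add_right {M N : X.Modules} {U : X.Opens} (a : Γ(M, U)) (b b' : Γ(N, U)) :
    InvX.tmul a (b + b') = InvX.tmul a b + InvX.tmul a b' :=
  (congrArg _ (KFlatLib.tm_add_right a b b')).trans (map_add _ _ _)

/-- The tensor of two sections, as a bilinear map. -/
def tmulL (M N : X.Modules) (U : X.Opens) :
    Γ(M, U) →ₗ[Γ(X, U)] Γ(N, U) →ₗ[Γ(X, U)] Γ(CohB1.tensorMod M N, U) :=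
  LinearMap.mk₂ Γ(X, U) InvX.tmul (fun a a' b => AmpleVan.tmul_add_left a a' b)
    (fun c a b => InvX.tmul_smul_left c a b) tmul_add_right (fun c a b => InvX.tmul_smul_right c a b)

variable (G : X.Modules)

/-- The tensor of several sections. -/
def tp : ∀ (j : ℕ) (U : X.Opens),
    MultilinearMap Γ(X, U) (fun _ : Fin j => Γ(G, U)) Γ(CohB1.tensorPow G j, U)
  | 0, U => MultilinearMap.constOfIsEmpty Γ(X, U) _ (show Γ(Coh.structureModule X, U) from (1 : Γ(X, U)))
  | j + 1, U => MultilinearMap.uncurryRight (M := fun _ : Fin (j + 1) => Γ(G, U))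
      ((tmulL (CohB1.tensorPow G j) G U).compMultilinearMap (tp j U))

theorem tp_succ (j : ℕ) (U : X.Opens) (e : Fin (j + 1) → Γ(G, U)) :
    tp G (j + 1) U e = InvX.tmul (tp G j U (Fin.init e)) (e (Fin.last j)) := rfl

theorem res_tp : ∀ (j : ℕ) {U V : X.Opens} (i : V ≤ U) (e : Fin j → Γ(G, U)),
    res (CohB1.tensorPow G j) i (tp G j U e) = tp G j V (fun k => res G i (e k))
  | 0, U, V, i, e => map_one (X.presheaf.map (homOfLE i).op).hom
  | j + 1, U, V, i, e => by
    rw [tp_succ, tp_succ]
    refine (InvX.res_tmul i _ _).trans ?_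
    rw [res_tp j i (Fin.init e)]
    rfl

/-- Antisymmetrisation. -/
def alt (j : ℕ) (U : X.Opens) : Γ(G, U) [⋀^Fin j]→ₗ[Γ(X, U)] Γ(CohB1.tensorPow G j, U) :=
  MultilinearMap.alternatization (tp G j U)

theorem alt_apply (j : ℕ) (U : X.Opens) (e : Fin j → Γ(G, U)) :
    alt G j U e = ∑ σ : Equiv.Perm (Fin j), Equiv.Perm.sign σ • tp G j U (fun k => e (σ k)) := by
  rw [alt, MultilinearMap.alternatization_apply]
  rfl

theorem alt_res (j : ℕ) (U V : X.Opens) (i : V ≤ U) (e : Fin j → Γ(G, U)) :
    res (CohB1.tensorPow G j) i (alt G j U e) = alt G j V (fun k => res G i (e k)) := by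
  rw [alt_apply, alt_apply, map_sum]
  refine Finset.sum_congr rfl fun σ _ => ?_
  rw [Units.smul_def, map_zsmul, res_tp, Units.smul_def]

/-- `L → G^{⊗ j}`. -/
def sec (j : ℕ) : L G j ⟶ CohB1.tensorPow G j :=
  ((PresheafOfModules.sheafificationAdjunction (𝟙 X.ringCatSheaf.obj)).homEquiv (P G j) _).symm
    (H28.ExtSh.liftP (alt G j) (alt_res G j))

theorem eta_hom {j : ℕ} {W : X.Modules} (θ : L G j ⟶ W) (V : X.Opens) (x : Ext' G j V) :
    θ.app V (eta G j V x) = ((KFlatLib.unitShP (P G j) ≫ DCoh.toP.map θ).app (op V)).hom x := rfl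

theorem sec_eta (j : ℕ) (V : X.Opens) (e : Fin j → Γ(G, V)) :
    (sec G j).app V (eta G j V (wedge G j e)) = alt G j V e := by
  rw [eta_hom]
  have h : KFlatLib.unitShP (P G j) ≫ DCoh.toP.map (sec G j) = H28.ExtSh.liftP (alt G j) (alt_res G j) := by
    have h := ((PresheafOfModules.sheafificationAdjunction (𝟙 X.ringCatSheaf.obj)).homEquiv (P G j) _).apply_symm_apply
      (H28.ExtSh.liftP (alt G j) (alt_res G j))
    rw [Adjunction.homEquiv_unit] at h
    exact h
  rw [h]
  exact AltGlue.lift_ιMulti (alt G j) V e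

theorem hom_ext_eta {j : ℕ} {W : X.Modules} {θ θ' : L G j ⟶ W}
    (h : ∀ (V : X.Opens) (e : Fin j → Γ(G, V)), θ.app V (eta G j V (wedge G j e)) =
      θ'.app V (eta G j V (wedge G j e))) : θ = θ' := by
  refine ((PresheafOfModules.sheafificationAdjunction (𝟙 X.ringCatSheaf.obj)).homEquiv (P G j) W).injective ?_
  rw [Adjunction.homEquiv_unit, Adjunction.homEquiv_unit]
  refine PresheafOfModules.hom_ext fun V => ?_
  obtain ⟨V⟩ := V
  refine ModuleCat.hom_ext (LinearMap.ext fun x => ?_)
  show θ.app V (eta G j V x) = θ'.app V (eta G j V x)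
  have hh : ((θ.app V).hom.comp (eta G j V).toAddMonoidHom : Ext' G j V →+ Γ(W, V)) =
      (θ'.app V).hom.comp (eta G j V).toAddMonoidHom := ext_of_wedge G j fun c e => by
    show θ.app V (eta G j V (c • wedge G j e)) = θ'.app V (eta G j V (c • wedge G j e))
    rw [map_smul]
    exact (Scheme.Modules.Hom.app_smul θ c _).trans ((congrArg (c • ·) (h V e)).trans
      (Scheme.Modules.Hom.app_smul θ' c _).symm)
  exact DFunLike.congr_fun hh x

/-- Appending a vector to a wedge, on sections. -/
def snocL (j : ℕ) (V : X.Opens) :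
    Ext' G j V →ₗ[Γ(X, V)] (G.val.obj (op V) →ₗ[Γ(X, V)] Ext' G (j + 1) V) :=
  LinearMap.mk₂ Γ(X, V)
    (fun a e => (⟨(a : ExteriorAlgebra Γ(X, V) (G.val.obj (op V))) * ExteriorAlgebra.ι Γ(X, V) e, by
      show _ ∈ (LinearMap.range (ExteriorAlgebra.ι Γ(X, V) (M := G.val.obj (op V)))) ^ (j + 1)
      rw [pow_succ]
      exact Submodule.mul_mem_mul a.2 ⟨e, rfl⟩⟩ : Ext' G (j + 1) V))
    (fun a a' e => Subtype.ext (add_mul _ _ _)) (fun c a e => Subtype.ext (smul_mul_assoc _ _ _))
    (fun a e e' => Subtype.ext (by simp [mul_add])) (fun c a e => Subtype.ext (by simp))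

theorem snocL_wedge (j : ℕ) (V : X.Opens) (e : Fin j → Γ(G, V)) (x : Γ(G, V)) :
    snocL G j V (wedge G j e) x = wedge G (j + 1) (Fin.snoc e x) := by
  refine Subtype.ext ?_
  show ExteriorAlgebra.ιMulti Γ(X, V) j (M := G.val.obj (op V)) e * ExteriorAlgebra.ι Γ(X, V) _ =
    ExteriorAlgebra.ιMulti Γ(X, V) (j + 1) (M := G.val.obj (op V)) (Fin.snoc e x)
  simp only [ExteriorAlgebra.ιMulti_apply]
  rw [List.ofFn_succ', List.prod_concat]
  simp

theorem resExt_snocL (j : ℕ) {U V : X.Opens} (i : V ≤ U) (a : Ext' G j U) (x : Γ(G, U)) :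
    resExt G (j + 1) i (snocL G j U a x) = snocL G j V (resExt G j i a) (res G i x) := by
  let f : Ext' G j U →+ Ext' G (j + 1) V := (resExt G (j + 1) i).comp ((snocL G j U).flip x).toAddMonoidHom
  let g : Ext' G j U →+ Ext' G (j + 1) V := ((snocL G j V).flip (res G i x)).toAddMonoidHom.comp (resExt G j i)
  have hfg : f = g := ext_of_wedge G j fun c e => by
    show resExt G (j + 1) i ((snocL G j U (c • wedge G j e)) x) = (snocL G j V (resExt G j i (c • wedge G j e))) (res G i x)
    rw [map_smul, LinearMap.smul_apply, resExt_smul, resExt_smul, snocL_wedge, resExt_wedge, resExt_wedge,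
      map_smul, LinearMap.smul_apply, snocL_wedge]
    congr 2
    funext k
    induction k using Fin.lastCases with
    | last => simp
    | cast k => simp
  exact DFunLike.congr_fun hfg a

/-- Appending a vector, on sections of the presheaf tensor. -/
def snocA (j : ℕ) (V : X.Opens) : (P G j ⊗ DCoh.toP.obj G).obj (op V) →+ Ext' G (j + 1) V :=
  (TensorProduct.lift (snocL G j V)).toAddMonoidHom

theorem snocA_tm (j : ℕ) (V : X.Opens) (a : Ext' G j V) (x : Γ(G, V)) :
    snocA G j V (KFlatLib.tm (P := P G j) a x) = snocL G j V a x := by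
  show TensorProduct.lift (snocL G j V) (a ⊗ₜ x) = _
  exact TensorProduct.lift.tmul a x

/-- Appending a vector, on presheaves. -/
def snocP (j : ℕ) : P G j ⊗ DCoh.toP.obj G ⟶ P G (j + 1) :=
  PresheafOfModules.homMk
    { app := fun V => AddCommGrpCat.ofHom (snocA G j V.unop)
      naturality := fun V V' f => AddCommGrpCat.hom_ext (AddMonoidHom.ext fun z => by
        induction z using KFlatLib.tm_induction with
        | h0 => simp
        | htm a x =>
          show snocA G j V'.unop (KFlatLib.tm (P := P G j) (resExt G j f.unop.le a) (res G f.unop.le x)) =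
            resExt G (j + 1) f.unop.le (snocA G j V.unop (KFlatLib.tm (P := P G j) a x))
          rw [snocA_tm, snocA_tm]
          exact (resExt_snocL G j f.unop.le a x).symm
        | hadd a b ha hb => rw [map_add, map_add, ha, hb]) }
    fun V c z => (TensorProduct.lift (snocL G j V.unop)).map_smul c z

/-- Appending a vector, on sheaves. -/
def snocM (j : ℕ) : CohB1.tensorMod (L G j) G ⟶ L G (j + 1) :=
  haveI := KFlatLib.isIso_shP_map_unit_whiskerRight (P G j) (DCoh.toP.obj G)
  inv (DCoh.shP.map (KFlatLib.unitShP (P G j) ▷ DCoh.toP.obj G)) ≫ DCoh.shP.map (snocP G j)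

theorem snocM_tmul (j : ℕ) (V : X.Opens) (e : Fin j → Γ(G, V)) (x : Γ(G, V)) :
    (snocM G j).app V (InvX.tmul (eta G j V (wedge G j e)) x) = eta G (j + 1) V (wedge G (j + 1) (Fin.snoc e x)) := by
  haveI := KFlatLib.isIso_shP_map_unit_whiskerRight (P G j) (DCoh.toP.obj G)
  let u := KFlatLib.unitShP (P G j) ▷ DCoh.toP.obj G
  let z : (P G j ⊗ DCoh.toP.obj G).obj (op V) := KFlatLib.tm (P := P G j) (wedge G j e) x
  have h1 : InvX.tmul (eta G j V (wedge G j e)) x =
      (DCoh.shP.map u).app V ((KFlatLib.unitShP (P G j ⊗ DCoh.toP.obj G)).app (op V) z) :=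
    congr(($(KFlatLib.unitShP_naturality u)).app (op V) z)
  rw [h1]
  have h2 : DCoh.shP.map u ≫ snocM G j = DCoh.shP.map (snocP G j) := by simp [snocM, u]
  refine (congr(($h2).app V ((KFlatLib.unitShP (P G j ⊗ DCoh.toP.obj G)).app (op V) z)) : _).trans ?_
  refine (congr(($(KFlatLib.unitShP_naturality (snocP G j))).app (op V) z)).symm.trans ?_
  exact congrArg (eta G (j + 1) V) (snocL_wedge G j V e x)

/-- `G^{⊗ j} → L`. -/
def retr : ∀ j : ℕ, CohB1.tensorPow G j ⟶ L G j
  | 0 => InvX.ofSect (eta G 0 ⊤ (wedge G 0 (fun k => k.elim0)))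
  | j + 1 => (AmpleVan.tw G).map (retr j) ≫ snocM G j

theorem retr_tp : ∀ (j : ℕ) (V : X.Opens) (e : Fin j → Γ(G, V)),
    (retr G j).app V (tp G j V e) = eta G j V (wedge G j e)
  | 0, V, e => by
    show (1 : Γ(X, V)) • res (L G 0) (le_top : V ≤ ⊤) _ = _
    rw [one_smul, eta_res, resExt_wedge]
    exact congrArg (eta G 0 V) (congrArg (wedge G 0) (Subsingleton.elim _ _))
  | j + 1, V, e => by
    show (snocM G j).app V (((AmpleVan.tw G).map (retr G j)).app V (InvX.tmul (tp G j V (Fin.init e)) (e (Fin.last j)))) = _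
    rw [AmpleVan.map_tmul_left, retr_tp j V (Fin.init e), snocM_tmul, Fin.snoc_init_self]

theorem app_nsmul_id (n : ℕ) (M : X.Modules) (V : X.Opens) (x : Γ(M, V)) :
    (n • 𝟙 M : M ⟶ M).app V x = n • x := by
  induction n with
  | zero => rw [zero_smul, zero_smul]; rfl
  | succ n ih => rw [succ_nsmul, succ_nsmul, ← ih]; rfl

/-- The composite is `j!`. -/
theorem sec_retr (j : ℕ) : sec G j ≫ retr G j = j.factorial • 𝟙 (L G j) := by
  refine hom_ext_eta G fun V e => ?_
  show (retr G j).app V ((sec G j).app V (eta G j V (wedge G j e))) = _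
  rw [sec_eta, alt_apply, map_sum]
  have h : ∀ σ : Equiv.Perm (Fin j),
      (retr G j).app V (Equiv.Perm.sign σ • tp G j V (fun k => e (σ k))) = eta G j V (wedge G j e) := fun σ => by
    rw [Units.smul_def, map_zsmul, retr_tp]
    have hp := (exteriorPower.ιMulti Γ(X, V) j (M := G.val.obj (op V))).map_perm e σ
    show ((Equiv.Perm.sign σ : ℤˣ) : ℤ) • eta G j V (wedge G j (e ∘ σ)) = _
    rw [show wedge G j (e ∘ σ) = Equiv.Perm.sign σ • wedge G j e from hp, Units.smul_def, map_zsmul, smul_smul,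
      ← Units.val_mul, Int.units_mul_self, Units.val_one, one_smul]
  rw [Finset.sum_congr rfl fun σ _ => h σ, Finset.sum_const, Finset.card_univ, Fintype.card_perm, Fintype.card_fin]
  exact (app_nsmul_id j.factorial (L G j) V _).symm

end Groth.Agent.BiRegQ
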